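import Cfsg.Agent.H225.Gen.Row
import Cfsg.Agent.H240.GenTwF.Tools

/-!
# `F₄(q)`, `p ∣ q ^ 2 + 1` (S2187, helper225)

* `two_smul_of_orth` : `2 x = ∑ ⟨x, e_i^∨⟩ e_i` for `l` mutually orthogonal roots;
* `exists_orth_F4` : a root orthogonal to `θ` and to a given root orthogonal to `θ`;
* `card_le_F4` : an elementary abelian group with frame automorphism `g₀ ^ 2 = -1` has order at most `p ^ 2`;
* `gamY_of_noSP` : `GamY ι p E = ⊤` for `E` maximal elementary abelian of order `p ^ 2`;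
* `genIn_F4_all` : `GenIn m p`.
-/

set_option autoImplicit false
set_option linter.unusedSectionVars false
set_option linter.unusedVariables false

namespace Cfsg.Agent.H225.Gen

open CoxeterSystem Cfsg Cfsg.Lie Cfsg.Lie.ChevalleyDatum
open Cfsg.Agent.ChevalleyStructure Cfsg.Agent.ChevalleyStructure.Elts Cfsg.Agent.ChevalleyStructure.CoxeterGeom
  Cfsg.Agent.ChevalleyStructure.CoxeterGeomTypes Cfsg.Agent.ChevalleyStructure.NPerm
open Cfsg.Agent.Tits.Roots Cfsg.Agent.Tits.Core Cfsg.Agent.Nodes Cfsg.Agent.Nodes.Reps Cfsg.Agent.Nodes.BNOf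
  Cfsg.Agent.Nodes.RGDChev Cfsg.Agent.Nodes.Coroot Cfsg.Agent.Nodes.SubComb
open Cfsg.Agent.KFacts.RgdField Cfsg.Agent.KFacts.RgdChevCoord
open Cfsg.Agent.BpExc Cfsg.Agent.BpExc.TorCent Cfsg.Agent.BpExc.TorChev Cfsg.Agent.BpExc.Tow
  Cfsg.Agent.BpExc.TowChev Cfsg.Agent.BpExc.Fr Cfsg.Agent.BpExc.Pair Cfsg.Agent.BpExc.LangFr Cfsg.Agent.GpExc.Field
  Cfsg.Agent.BpExc.NInst Cfsg.Agent.BpExc.NChev Cfsg.Agent.BpExc.Asm Cfsg.Agent.BpExc.CommZ
open Cfsg.Agent.H818.StrP.UTab Cfsg.Agent.H818.StrP.UAct Cfsg.Agent.H123.ExcComb Cfsg.Agent.H696.GmnToral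
open Cfsg.Agent.H469.Exc Cfsg.Agent.H469.Exc.SigFr Cfsg.Agent.H316.U3 Cfsg.Agent.H316.U6 Cfsg.Agent.H818.Gen

universe u v

/-! ### orthogonal roots -/

section Comb

variable {D : ChevalleyDatum} {l : ℕ} {M : CoxeterMatrix (Fin l)} {W : Type*} [Group W]

/-- orthogonal families -/
theorem linInd_of_orth {I W : Type*} [Fintype I] [DecidableEq I] [Group W] {M : CoxeterMatrix I}
    (cs : CoxeterSystem M W) {A : I → I → ℤ} (h : IsCartan M A) [Fintype W] {κ : Type*} [Fintype κ]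
    (v : κ → I → ℤ) (h0 : ∀ i, v i ≠ 0) (ho : ∀ i j, i ≠ j → form cs h (v i) (v j) = 0) :
    Fintype.card κ ≤ Fintype.card I := by
  classical
  have h1 : LinearIndependent ℤ v := by
    rw [Fintype.linearIndependent_iff]
    intro c hc j
    have h2 : form cs h (∑ i, c i • v i) (v j) = 0 := by
      rw [hc]
      have := form_smul_left cs h 0 0 (v j)
      rw [zero_smul, zero_mul] at this
      exact this
    rw [form_sum', Finset.sum_eq_single j (fun i _ hi => by rw [ho i j hi, mul_zero])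
      (fun h3 => absurd (Finset.mem_univ _) h3)] at h2
    exact (mul_eq_zero.1 h2).resolve_right (form_pos cs h (h0 j)).ne'
  have h2 := h1.fintype_card_le_finrank
  rwa [Module.finrank_pi] at h2

/-- **`2 x = ∑ ⟨x, e_i^∨⟩ e_i`** -/
theorem two_smul_of_orth {I W : Type*} [Fintype I] [DecidableEq I] [Group W] {M : CoxeterMatrix I}
    (cs : CoxeterSystem M W) {A : I → I → ℤ} (h : IsCartan M A) [Finite W] {κ : Type*} [Fintype κ]
    (hκ : Fintype.card κ = Fintype.card I) (e : κ → I → ℤ) (he : ∀ i, IsRoot cs h (e i))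
    (ho : ∀ i j, i ≠ j → cpr cs h (e i) (e j) = 0) (x : I → ℤ) :
    (2 : ℤ) • x = ∑ i, cpr cs h x (e i) • e i := by
  classical
  have := Fintype.ofFinite W
  obtain ⟨d, hd⟩ : ∃ d, d = (2 : ℤ) • x - ∑ i, cpr cs h x (e i) • e i := ⟨_, rfl⟩
  have h1 : ∀ j, cpr cs h d (e j) = 0 := by
    intro j
    have h2 : cpr cs h (∑ i, cpr cs h x (e i) • e i) (e j) = 2 * cpr cs h x (e j) := by
      have h3 : cpr cs h (∑ i, cpr cs h x (e i) • e i) (e j) = ell cs h (he j) (∑ i, cpr cs h x (e i) • e i) := rfl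
      rw [h3, map_sum, Finset.sum_eq_single j]
      · rw [map_zsmul, ell_apply, cpr_self cs h (he j), smul_eq_mul, mul_comm]
      · intro i _ hi
        rw [map_zsmul, ell_apply, ho i j hi, smul_zero]
      · intro h4
        exact absurd (Finset.mem_univ _) h4
    rw [hd, cpr_sub (he j), h2, cpr_smul cs h _ _ (he j), sub_self]
  by_contra hne
  have hd0 : d ≠ 0 := fun h2 => hne (sub_eq_zero.1 (hd ▸ h2))
  have h2 : ∀ i j, i ≠ j → form cs h (e i) (e j) = 0 := fun i j hij => (cpr_zero_iff cs h _ (he j)).1 (ho i j hij)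
  have h3 : ∀ j, form cs h d (e j) = 0 := fun j => (cpr_zero_iff cs h _ (he j)).1 (h1 j)
  have h4 := linInd_of_orth cs h (κ := Option κ) (fun i => i.elim d e) (by
    rintro (_ | i)
    · exact hd0
    · exact (he i).ne_zero) (by
    rintro (_ | i) (_ | j) hij
    · exact absurd rfl hij
    · exact h3 j
    · rw [form_comm]; exact h3 i
    · exact h2 i j fun h5 => hij (by rw [h5]))
  rw [Fintype.card_option, hκ] at h4
  omega

/-- the table check: orthogonal roots -/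
def chkO (D : ChevalleyDatum) : Bool :=
  (List.range D.nroots).all fun s => !decide (RootVec.rt D s (node D) = 0) ||
    (List.range D.nroots).any fun s' => decide (RootVec.rt D s' (node D) = 0) && decide (RootCombGood.car D s s' = 0)

theorem chkO_F4 : chkO chevF4 = true := by decide +kernel

theorem exists_orth (h : HiList D) (hp : IsType D l M) (cs : CoxeterSystem M W) (hch : chkO D = true)
    {s : Fin l → ℤ} (hs : IsRoot cs hp.isCartan s) (hs0 : cpr cs hp.isCartan s (th D l) = 0) :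
    ∃ s', IsRoot cs hp.isCartan s' ∧ cpr cs hp.isCartan s' (th D l) = 0 ∧ cpr cs hp.isCartan s' s = 0 := by
  have := finite_W hp cs
  obtain ⟨i, hi, rfl⟩ := (isRoot_iff hp cs _).1 hs
  rw [cpr_th h hp cs, vec_nd] at hs0
  unfold chkO at hch
  rw [List.all_eq_true] at hch
  have h1 := hch i (List.mem_range.2 hi)
  rw [hs0, decide_eq_true (rfl : (0 : ℤ) = 0), Bool.not_true, Bool.false_or, List.any_eq_true] at h1
  obtain ⟨j, hj, h2⟩ := h1
  rw [Bool.and_eq_true, decide_eq_true_eq, decide_eq_true_eq] at h2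
  have hj' := List.mem_range.1 hj
  refine ⟨vec D l j, isRoot_vec hp cs hj', ?_, ?_⟩
  · rw [cpr_th h hp cs, vec_nd]; exact h2.1
  · rw [KFacts.ChevTwoInst.cpr_vec hp cs hi _ hj']; exact h2.2

end Comb

/-! ### the rank -/

section Rank

variable {D : ChevalleyDatum} {l : ℕ} {M : CoxeterMatrix (Fin l)} (hp : IsType D l M)
variable {k : Type u} [Field k] {W : Type v} [Group W] (cs : CoxeterSystem M W)
  [IsAlgClosed k] (hk : LocFin k) {r e : ℕ} [Fact r.Prime] [CharP k r]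

include hk in
/-- an element of the torus of odd order `p` trivial on `l` orthogonal roots is trivial -/
theorem eq_one_of_orth (r : ℕ) [Fact r.Prime] [CharP k r] (hZ : Subgroup.center ↥(D.group k) = ⊥) {p : ℕ} (hpo : Odd p) {t : ↥(D.group k)}
    (ht : t ∈ TT D k) (htp : t ^ p = 1) {κ : Type*} [Fintype κ] (hκ : Fintype.card κ = l)
    (b : κ → Fin l → ℤ) (hb : ∀ i, IsRoot cs hp.isCartan (b i))
    (ho : ∀ i j, i ≠ j → cpr cs hp.isCartan (b i) (b j) = 0) (h1 : ∀ i, ch hp (b i) t = 1) : t = 1 := by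
  have := finite_W hp cs
  refine eq_one_TT hp cs hk r hZ ht fun a ha => ?_
  obtain ⟨φ, h0, hadd, hφ⟩ := chAddL hp cs hk r t ht
  have hne : ∀ x, φ x ≠ 0 := by
    intro x hx
    have h2 := hadd x (-x)
    rw [add_neg_cancel, h0, hx, zero_mul] at h2
    exact one_ne_zero h2
  let N : AddSubgroup (Fin l → ℤ) :=
    { carrier := {x | φ x = 1}
      zero_mem' := h0
      add_mem' := fun {x y} hx hy => by
        show φ (x + y) = 1
        rw [hadd, show φ x = 1 from hx, show φ y = 1 from hy, mul_one]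
      neg_mem' := fun {x} hx => by
        show φ (-x) = 1
        have h2 := hadd x (-x)
        rw [add_neg_cancel, h0, show φ x = 1 from hx, one_mul] at h2
        exact h2.symm }
  have h2 : (2 : ℤ) • a ∈ N := by
    rw [two_smul_of_orth cs hp.isCartan (by rw [hκ, Fintype.card_fin]) b hb ho a]
    refine N.sum_mem fun i _ => N.zsmul_mem ?_ _
    show φ (b i) = 1
    rw [← hφ _ (hb i), h1]
  have h3 : φ a ^ 2 = 1 := by
    rw [two_smul] at h2
    have h4 : φ (a + a) = 1 := h2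
    rw [hadd] at h4
    rw [sq]; exact h4
  have h4 : φ a ^ p = 1 := by
    rw [← hφ a ha, ← H696.GmnToral.ch_pow hp cs hk r ha ht, htp, ch_one hp cs hk r ha]
  have h5 : Nat.Coprime 2 p := by
    rw [Nat.coprime_two_left]; exact hpo
  have h9 := pow_gcd_eq_one.2 ⟨h3, h4⟩
  rw [h5.gcd_eq_one, pow_one] at h9
  rw [hφ a ha, h9]

/-- the number of `p`-th roots of unity -/
theorem card_roots_le {k : Type u} [Field k] {p : ℕ} (hp0 : 0 < p) :
    Finite {c : k // c ^ p = 1} ∧ Nat.card {c : k // c ^ p = 1} ≤ p := by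
  classical
  let f : {c : k // c ^ p = 1} → {c : k // c ∈ Polynomial.nthRootsFinset p (1 : k)} := fun c =>
    ⟨c.1, (Polynomial.mem_nthRootsFinset hp0 (1 : k)).2 c.2⟩
  have hf : Function.Injective f := fun a b hab => Subtype.ext (congrArg (fun z => z.1) hab)
  have h1 : Finite {c : k // c ^ p = 1} := Finite.of_injective f hf
  refine ⟨h1, ?_⟩
  have h2 := Nat.card_le_card_of_injective f hf
  rw [Nat.card_eq_fintype_card (α := {c : k // c ∈ Polynomial.nthRootsFinset p (1 : k)}), Fintype.card_coe] at h2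
  refine h2.trans ?_
  rw [Polynomial.nthRootsFinset]
  exact (Multiset.toFinset_card_le _).trans (Polynomial.card_nthRoots _ _)

variable (h : HiList D)

include h hk in
/-- **The rank bound**: `g₀ ² = -1`, `l = 4`. -/
theorem card_le_four (hl : l = 4) (hch : chkO D = true) (hZ : Subgroup.center ↥(D.group k) = ⊥) {σ : MulAut ↥(D.group k)}
    (hσ : IsFrob r e σ) {g₀ : (Fin l → ℤ) ≃+ (Fin l → ℤ)} (F0 : Fr cs hp.isCartan (TT D k) (XX D l k) σ g₀)
    (hsq : ∀ x, g₀ (g₀ x) = -x) (hθ0 : cpr cs hp.isCartan (g₀ (th D l)) (th D l) = 0)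
    {p : ℕ} (hp0 : 0 < p) (hpo : Odd p) {E : Subgroup ↥(D.group k)} [Finite ↥E] (hEp : ∀ a ∈ E, a ^ p = 1)
    (hEσ : ∀ a ∈ E, σ a = a) (hET : ∀ a ∈ E, a ∈ TT D k) : Nat.card ↥E ≤ p ^ 2 := by
  have := finite_W hp cs
  have hθ := th_root h hp cs
  have hgθ := (F0.root _).2 hθ
  have hinv : ∀ x y, IsRoot cs hp.isCartan y → cpr cs hp.isCartan (g₀ x) (g₀ y) = cpr cs hp.isCartan x y :=
    fun x y hy => cpr_g' hp cs F0.root hy
  obtain ⟨b, hb, hbθ, hbg⟩ := exists_orth h hp cs hch hgθ hθ0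
  have hgb := (F0.root _).2 hb
  -- `⟨g₀ b, b^∨⟩ = 0`
  have h1 : ∀ x, IsRoot cs hp.isCartan x → cpr cs hp.isCartan (g₀ x) x = 0 := by
    intro x hx
    have := Fintype.ofFinite W
    have hgx := (F0.root _).2 hx
    -- the form is `g₀`-invariant up to a scalar
    have h2 := hinv (g₀ x) x hx
    rw [hsq, cpr_neg cs hp.isCartan _ hgx] at h2
    by_contra hne
    have h3 := two_form_cpr cs hp.isCartan x hgx
    have h4 := two_form_cpr cs hp.isCartan (g₀ x) hx
    have h5 : cpr cs hp.isCartan x (g₀ x) = - cpr cs hp.isCartan (g₀ x) x := by omega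
    rw [h5, form_comm] at h3
    have h6 := form_pos cs hp.isCartan hgx.ne_zero
    have h7 := form_pos cs hp.isCartan hx.ne_zero
    have h8 : cpr cs hp.isCartan (g₀ x) x * (form cs hp.isCartan (g₀ x) (g₀ x) + form cs hp.isCartan x x) = 0 := by
      linear_combination h3 - h4
    rcases mul_eq_zero.1 h8 with h9 | h9
    · exact hne h9
    · omega
  have h2 : cpr cs hp.isCartan (g₀ b) (th D l) = 0 := by
    have h3 := hinv b (g₀ (th D l)) hgθ
    rw [hsq, cpr_neg_right cs hp.isCartan _ hθ, hbg] at h3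
    omega
  have h3 : cpr cs hp.isCartan (g₀ b) (g₀ (th D l)) = 0 := by rw [hinv _ _ hθ, hbθ]
  let f : Fin 4 → Fin l → ℤ := ![th D l, g₀ (th D l), b, g₀ b]
  have hfr : ∀ i, IsRoot cs hp.isCartan (f i) := by
    intro i
    fin_cases i
    · exact hθ
    · exact hgθ
    · exact hb
    · exact hgb
  have hf0 : ∀ i j, i ≠ j → cpr cs hp.isCartan (f i) (f j) = 0 := by
    have key : ∀ i j : Fin 4, i < j → cpr cs hp.isCartan (f j) (f i) = 0 := by
      intro i j hij
      fin_cases i <;> fin_cases j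
      all_goals first | exact absurd hij (by decide) | skip
      · exact hθ0
      · exact hbθ
      · exact h2
      · exact hbg
      · exact h3
      · exact h1 b hb
    intro i j hij
    rcases lt_or_gt_of_ne hij with h4 | h4
    · exact (cpr_zero_comm cs hp.isCartan (hfr j) (hfr i)).1 (key i j h4)
    · exact key j i h4
  -- the characters
  have hch1 : ∀ x ∈ E, ∀ a, IsRoot cs hp.isCartan a → ch hp a x = 1 → ch hp (g₀ a) x = 1 := by
    intro x hx a ha h4
    have h5 := fr_ch hp cs hk hσ F0 ha (hET x hx)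
    rw [hEσ x hx, h4, one_pow] at h5
    exact h5
  have hchp : ∀ x ∈ E, ∀ a, IsRoot cs hp.isCartan a → ch hp a x ^ p = 1 := by
    intro x hx a ha
    rw [← H696.GmnToral.ch_pow hp cs hk r ha (hET x hx), hEp x hx, ch_one hp cs hk r ha]
  obtain ⟨hfin, hcard⟩ := card_roots_le (k := k) hp0
  let F : ↥E → {c : k // c ^ p = 1} × {c : k // c ^ p = 1} := fun x =>
    (⟨ch hp (th D l) x.1, hchp _ x.2 _ hθ⟩, ⟨ch hp b x.1, hchp _ x.2 _ hb⟩)
  have hF : Function.Injective F := by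
    intro x y hxy
    have e1 : ch hp (th D l) x.1 = ch hp (th D l) y.1 := congrArg (fun z => z.1.1) hxy
    have e2 : ch hp b x.1 = ch hp b y.1 := congrArg (fun z => z.2.1) hxy
    have hu : x.1⁻¹ * y.1 ∈ E := mul_mem (inv_mem x.2) y.2
    have hc : ∀ a, IsRoot cs hp.isCartan a → ch hp a x.1 = ch hp a y.1 → ch hp a (x.1⁻¹ * y.1) = 1 := by
      intro a ha h4
      rw [ch_mul hp cs hk r ha (inv_mem (hET _ x.2)) (hET _ y.2), ch_inv hp cs hk r ha (hET _ x.2), h4,
        inv_mul_cancel₀ (ch_ne_zero hp cs hk r ha (hET _ y.2))]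
    have h4 : x.1⁻¹ * y.1 = 1 := by
      refine eq_one_of_orth hp cs hk r hZ hpo (hET _ hu) (hEp _ hu) (κ := Fin 4) (by rw [Fintype.card_fin, hl])
        f hfr hf0 fun i => ?_
      fin_cases i
      · exact hc _ hθ e1
      · exact hch1 _ hu _ hθ (hc _ hθ e1)
      · exact hc _ hb e2
      · exact hch1 _ hu _ hb (hc _ hb e2)
    exact Subtype.ext (inv_mul_eq_one.1 h4)
  have h5 := Nat.card_le_card_of_injective F hF
  rw [Nat.card_prod] at h5
  calc Nat.card ↥E ≤ _ := h5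
    _ ≤ p * p := Nat.mul_le_mul hcard hcard
    _ = p ^ 2 := (pow_two p).symm

end Rank

/-! ### the generation theorem for maximal `E` of order `p ^ 2` -/

section NoSP

open Subgroup Cfsg.Agent.H818.StrP Cfsg.Agent.H240.GenTwF

variable {Y : Type*} [Group Y] {K : Type*} [Group K] {p : ℕ} [hpp : Fact p.Prime]

/-- **`GamY ι p E = ⊤`** -/
theorem gamY_of_noSP {ι : K →* Y} (hι : Function.Injective ι) [Finite K] [IsSimpleGroup K]
    (hna : ¬ IsMulCommutative K) (hno : NoSP p K)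
    (hab : ∀ Q : Subgroup K, IsPGroup p Q → ∀ a ∈ Q, ∀ b ∈ Q, a * b = b * a)
    {E : Subgroup Y} (hE : IsElementaryAbelian p E) (hEι : ∀ y ∈ E, ∃ a, ι a = y) (hc : Nat.card E = p ^ 2)
    (hmax : ∀ A : Subgroup Y, IsElementaryAbelian p A → (∀ y ∈ A, ∃ a, ι a = y) → E ≤ A → A ≤ E) :
    GamY ι p E = ⊤ := by
  classical
  have h1p := hpp.out.one_lt
  have hz := center_bot (K := K) hna
  have hinj := conj_injective hz
  obtain ⟨E₀, hE₀⟩ : ∃ E₀ : Subgroup K, E₀ = E.comap ι := ⟨_, rfl⟩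
  have hmem₀ : ∀ a, a ∈ E₀ ↔ ι a ∈ E := fun a => by rw [hE₀]; exact mem_comap
  have hE₀ab : IsElementaryAbelian p E₀ := by
    refine ⟨⟨⟨fun a b => Subtype.ext (hι ?_)⟩⟩, fun a ha => hι ?_⟩
    · have := congrArg Subtype.val (hE.1.1.1 ⟨ι a, (hmem₀ _).1 a.2⟩ ⟨ι b, (hmem₀ _).1 b.2⟩)
      show ι ((a : K) * b) = ι ((b : K) * a)
      rw [map_mul, map_mul]
      exact this
    · rw [map_pow, map_one]
      exact hE.2 _ ((hmem₀ a).1 ha)
  have hmapι : E₀.map ι = E := by
    refine le_antisymm ?_ fun y hy => ?_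
    · rintro _ ⟨a, ha, rfl⟩
      exact (hmem₀ a).1 ha
    · obtain ⟨a, rfl⟩ := hEι y hy
      exact ⟨a, (hmem₀ a).2 hy, rfl⟩
  have hc₀ : Nat.card E₀ = p ^ 2 := by
    rw [← hc, ← hmapι]
    exact Nat.card_congr (E₀.equivMapOfInjective ι hι).toEquiv
  obtain ⟨E₁, hE₁⟩ : ∃ E₁ : Subgroup (MulAut K), E₁ = E₀.map (MulAut.conj : K →* MulAut K) := ⟨_, rfl⟩
  have hmem₁ : ∀ a, MulAut.conj a ∈ E₁ ↔ a ∈ E₀ := by
    intro a
    rw [hE₁]
    constructor
    · rintro ⟨b, hb, hab⟩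
      rwa [← hinj hab]
    · intro ha
      exact ⟨a, ha, rfl⟩
  have hE₁I : E₁ ≤ Inn K := by
    rw [hE₁]
    rintro _ ⟨a, -, rfl⟩
    exact ⟨a, rfl⟩
  have hE₁ab : IsElementaryAbelian p E₁ := by
    rw [hE₁]
    refine ⟨⟨⟨?_⟩⟩, ?_⟩
    · rintro ⟨_, a, ha, rfl⟩ ⟨_, b, hb, rfl⟩
      refine Subtype.ext ?_
      show MulAut.conj a * MulAut.conj b = MulAut.conj b * MulAut.conj a
      rw [← map_mul, ← map_mul]
      exact congrArg _ (congrArg Subtype.val (hE₀ab.1.1.1 ⟨a, ha⟩ ⟨b, hb⟩))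
    · rintro _ ⟨a, ha, rfl⟩
      rw [← map_pow, hE₀ab.2 a ha, map_one]
  have hc₁ : Nat.card E₁ = p ^ 2 := by
    rw [← hc₀, hE₁]
    exact (Nat.card_congr (E₀.equivMapOfInjective _ hinj).toEquiv).symm
  obtain ⟨x, hx, hx1⟩ : ∃ x ∈ E₀, x ≠ 1 := by
    have h1 : Nontrivial E₀ := Finite.one_lt_card_iff_nontrivial.1 (by rw [hc₀]; exact Nat.one_lt_pow two_ne_zero h1p)
    obtain ⟨⟨e, he⟩, hne⟩ := exists_ne (1 : E₀)
    exact ⟨e, he, fun h2 => hne (Subtype.ext h2)⟩
  have hsup : Inn K ⊔ E₁ = Inn K := sup_eq_left.2 hE₁I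
  have hG : Gam p E₁ = ⊤ := by
    refine Gam_eq_top_of_noSP hna hE₁ab hc₁ hx1 ((hmem₁ x).2 hx) ?_ ?_
    · intro Q hQX hQp hEQ y hy hyp
      rw [hsup] at hQX
      obtain ⟨y, rfl⟩ := hQX hy
      have hQ₀ := hab _ (hQp.comap_of_injective (MulAut.conj : K →* MulAut K) hinj)
      have hyp' : y ^ p = 1 := hinj (by rw [map_pow, hyp, map_one])
      have hle : E₀ ⊔ zpowers y ≤ Q.comap (MulAut.conj : K →* MulAut K) :=
        sup_le (fun e he => mem_comap.2 (hEQ ((hmem₁ e).2 he))) (zpowers_le.2 (mem_comap.2 hy))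
      have hD : IsElementaryAbelian p (E₀ ⊔ zpowers y) := by
        refine ⟨⟨⟨fun a b => Subtype.ext (hQ₀ _ (hle a.2) _ (hle b.2))⟩⟩, ?_⟩
        have h1 : E₀ ⊔ zpowers y ≤ Subgroup.closure {a : K | a ∈ Q.comap (MulAut.conj : K →* MulAut K) ∧ a ^ p = 1} :=
          sup_le (fun e he => subset_closure ⟨mem_comap.2 (hEQ ((hmem₁ e).2 he)), hE₀ab.2 e he⟩)
            (zpowers_le.2 (subset_closure ⟨mem_comap.2 hy, hyp'⟩))
        have h2 : ∀ a ∈ Subgroup.closure {a : K | a ∈ Q.comap (MulAut.conj : K →* MulAut K) ∧ a ^ p = 1},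
            a ∈ Q.comap (MulAut.conj : K →* MulAut K) ∧ a ^ p = 1 := by
          intro a ha
          induction ha using Subgroup.closure_induction with
          | mem a ha => exact ha
          | one => exact ⟨one_mem _, one_pow _⟩
          | mul a b _ _ ha hb =>
            refine ⟨mul_mem ha.1 hb.1, ?_⟩
            rw [(show Commute a b from hQ₀ a ha.1 b hb.1).mul_pow, ha.2, hb.2, mul_one]
          | inv a _ ha => exact ⟨inv_mem ha.1, by rw [inv_pow, ha.2, inv_one]⟩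
        exact fun a ha => (h2 a (h1 ha)).2
      have hA : IsElementaryAbelian p ((E₀ ⊔ zpowers y).map ι) := by
        refine ⟨⟨⟨?_⟩⟩, ?_⟩
        · rintro ⟨_, a, ha, rfl⟩ ⟨_, b, hb, rfl⟩
          refine Subtype.ext ?_
          show ι a * ι b = ι b * ι a
          rw [← map_mul, ← map_mul]
          exact congrArg _ (congrArg Subtype.val (hD.1.1.1 ⟨a, ha⟩ ⟨b, hb⟩))
        · rintro _ ⟨a, ha, rfl⟩
          rw [← map_pow, hD.2 a ha, map_one]
      have h3 := hmax _ hA (by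
        rintro _ ⟨a, -, rfl⟩
        exact ⟨a, rfl⟩) (by rw [← hmapι]; exact map_mono le_sup_left)
      exact (hmem₁ y).2 ((hmem₀ y).2 (h3 ⟨y, mem_sup_right (mem_zpowers y), rfl⟩))
    · have e1 : K ≃* ↥(Inn K ⊔ E₁) := (MonoidHom.ofInjective hinj).trans (MulEquiv.subgroupCongr hsup.symm)
      exact noSP_congr e1 hno
  rw [eq_top_iff, ← hG]
  refine Gam_le fun F hF hi g hg => ?_
  refine mem_GamY (F := (F.comap (MulAut.conj : K →* MulAut K)).map ι) ?_ ?_ ?_
  · rintro _ ⟨a, ha, rfl⟩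
    exact (hmem₀ a).1 ((hmem₁ a).1 (hF (mem_comap.1 ha)))
  · rw [← hmapι, relIndex_map_map_of_injective _ _ hι]
    have h2 := relIndex_comap (F) (MulAut.conj : K →* MulAut K) E₀
    rw [h2, ← hE₁, hi]
  · rintro _ ⟨a, ha, rfl⟩
    have h3 : (MulAut.conj a) g = g := hg _ (mem_comap.1 ha)
    rw [MulAut.conj_apply] at h3
    rw [← map_mul, ← map_mul, mul_inv_eq_iff_eq_mul.1 h3]

end NoSP

/-! ### the row -/

section Row

open Subgroup Cfsg.Agent.H818.StrP

variable {r q : ℕ} [hr : Fact r.Prime] {K₀ : Type v} [Group K₀]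

theorem genIn_F4_all {hp : IsType chevF4 4 CoxeterMatrix.F₄} (m : MData hp r q K₀) [IsSimpleGroup K₀]
    (hna : ¬ IsMulCommutative K₀) {p : ℕ} (hpp : p.Prime) (hpr : p ≠ r) (h5 : 5 ≤ p) (hq : 3 ≤ q) (hdd : ¬ p ∣ m.dd)
    (hrow : Row p K₀) : GenIn m p := by
  classical
  have := Fact.mk hpp
  have := m.finite
  have hi : HiList chevF4 := hi_F4
  have hne : chevF4 ≠ chevG2 := ne_of_apply_ne ChevalleyDatum.nroots (by decide +kernel)
  have h8 : chevF4 ≠ chevE8 := ne_of_apply_ne ChevalleyDatum.nroots (by decide +kernel)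
  have hZ := center_KK hi r
  have hW := finite_W hp CoxeterMatrix.F₄.toCoxeterSystem
  -- `p`-subgroups of `K₀` are abelian
  have hab : ∀ Q : Subgroup K₀, IsPGroup p Q → ∀ a ∈ Q, ∀ b ∈ Q, a * b = b * a := by
    intro Q hQ a ha b hb
    have h1 : Finite ↥(Q.map m.ι) := Set.Finite.to_subtype ((Set.toFinite (Q : Set K₀)).image m.ι)
    obtain ⟨g, hg⟩ := H795.TorSub.exists_toral_of_not_dvd hp r (locFin r) hpp hpr
      (by rw [H795.RowsA.card_F4]; exact H795.RowsA.not_dvd_1152 hpp h5) (hQ.map m.ι)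
    have h2 := TT_comm hp _ (hg _ ⟨a, ha, rfl⟩) _ (hg _ ⟨b, hb, rfl⟩)
    apply m.inj
    rw [map_mul, map_mul]
    have h3 : g * (m.ι a * m.ι b) * g⁻¹ = g * (m.ι b * m.ι a) * g⁻¹ := by
      calc g * (m.ι a * m.ι b) * g⁻¹ = g * m.ι a * g⁻¹ * (g * m.ι b * g⁻¹) := by group
        _ = g * m.ι b * g⁻¹ * (g * m.ι a * g⁻¹) := h2
        _ = _ := by group
    exact mul_left_cancel (mul_right_cancel h3)
  -- the dichotomy
  have hdich : ∀ A : Subgroup ↥(chevF4.group (KK r)), IsElementaryAbelian p A → (∀ y ∈ A, m.σ y = y) →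
      p ^ 2 ≤ Nat.card ↥A → GamY m.ι p A = ⊤ ∨ Nat.card ↥A ≤ p ^ 2 := by
    intro A hA hσ hA2
    have := finite_of_fix m hσ
    obtain ⟨z, hz⟩ := toral_all hp hpp hpr (Or.inl ⟨h5, fun h => absurd h h8⟩) hA
    obtain ⟨F, hF, hFi⟩ := exists_hyperplane hA (le_trans (by nlinarith) hA2)
    rcases long_fixed_or hi hp CoxeterMatrix.F₄.toCoxeterSystem (locFin r) m.he hZ m.frob m.fr m.top hpp
      (fun a ha => hA.2 a ha) ⟨F, hF, hFi⟩ hσ hz with h1 | ⟨z₀, k₀, w, a2, a3, F0, a6, hc, hsq⟩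
    · left
      exact gen_of_fixed hi m hq (fun h => absurd h hne) hpp (fun a ha => hA.2 a ha) ⟨F, hF, hFi⟩ hσ hz
        (fun F hF hFi a _ ha => mem_GamY hF hFi fun y hy => (ha y hy).symm) h1
    · right
      obtain ⟨A', hA'⟩ : ∃ A' : Subgroup ↥(chevF4.group (KK r)), A' = A.map (MulAut.conj z).toMonoidHom := ⟨_, rfl⟩
      have hcard : Nat.card ↥A' = Nat.card ↥A := by
        rw [hA']
        exact (Nat.card_congr (A.equivMapOfInjective _ (MulAut.conj z).injective).toEquiv).symm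
      have hfin : Finite ↥A' := Nat.finite_of_card_ne_zero (by rw [hcard]; exact Nat.card_pos.ne')
      rw [← hcard]
      have hmem : ∀ a ∈ A', ∃ x ∈ A, a = z * x * z⁻¹ := by
        rw [hA']
        rintro _ ⟨x, hx, rfl⟩
        exact ⟨x, hx, rfl⟩
      refine card_le_four hp CoxeterMatrix.F₄.toCoxeterSystem (locFin r) hi rfl chkO_F4 hZ (m.frob.conj_mul k₀) F0
        (fun x => hsq x) (hc _ (th_mem hp _)) hpp.pos (hpp.odd_of_ne_two (by omega)) ?_ ?_ ?_
      · intro a ha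
        obtain ⟨x, hx, rfl⟩ := hmem a ha
        rw [conj_pow, hA.2 x hx, mul_one, mul_inv_cancel]
      · intro a ha
        obtain ⟨x, hx, rfl⟩ := hmem a ha
        exact a6 ⟨x, hx⟩
      · intro a ha
        obtain ⟨x, hx, rfl⟩ := hmem a ha
        exact hz x hx
  intro E hE hσ hE2
  by_cases hex : ∃ A : Subgroup ↥(chevF4.group (KK r)), IsElementaryAbelian p A ∧ (∀ y ∈ A, m.σ y = y) ∧ E ≤ A ∧
      GamY m.ι p A = ⊤
  · obtain ⟨A, hA, hAσ, hEA, hAt⟩ := hex
    have := finite_of_fix m hAσ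
    rw [eq_top_iff, ← hAt]
    exact GamY_mono hEA hA (le_trans (by nlinarith [hpp.two_le]) hE2)
  · push Not at hex
    have hfinE := finite_of_fix m hσ
    have hcard : Nat.card ↥E = p ^ 2 := by
      refine le_antisymm ?_ hE2
      exact (hdich E hE hσ hE2).resolve_left (hex E hE hσ le_rfl)
    have hEι : ∀ y ∈ E, ∃ a, m.ι a = y := fun y hy => m.pm hpp hdd (hσ y hy) ⟨1, by rw [pow_one]; exact hE.2 y hy⟩
    have hno : NoSP p K₀ := by
      rcases hrow with hcyc | hno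
      · exfalso
        obtain ⟨E₀, hE₀⟩ : ∃ E₀ : Subgroup K₀, E₀ = E.comap m.ι := ⟨_, rfl⟩
        have hmem₀ : ∀ a, a ∈ E₀ ↔ m.ι a ∈ E := fun a => by rw [hE₀]; exact mem_comap
        have hE₀p : ∀ a ∈ E₀, a ^ p = 1 := fun a ha => m.inj (by
          rw [map_pow, map_one]
          exact hE.2 _ ((hmem₀ a).1 ha))
        have hpg : IsPGroup p E₀ := fun a => ⟨1, Subtype.ext (by rw [pow_one]; exact hE₀p a.1 a.2)⟩
        have hmapι : E₀.map m.ι = E := by
          refine le_antisymm ?_ fun y hy => ?_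
          · rintro _ ⟨a, ha, rfl⟩
            exact (hmem₀ a).1 ha
          · obtain ⟨a, rfl⟩ := hEι y hy
            exact ⟨a, (hmem₀ a).2 hy, rfl⟩
        have hc₀ : Nat.card E₀ = p ^ 2 := by
          rw [← hcard, ← hmapι]
          exact Nat.card_congr (E₀.equivMapOfInjective m.ι m.inj).toEquiv
        obtain ⟨P, hP⟩ := hpg.exists_le_sylow
        have := hcyc P
        have h3 : IsCyclic E₀ := isCyclic_of_injective (Subgroup.inclusion hP) (Subgroup.inclusion_injective hP)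
        have h4 := H240.GenTwF.card_le_of_cyclic (p := p) (P := E₀) fun x => Subtype.ext (hE₀p x.1 x.2)
        rw [hc₀] at h4
        nlinarith [hpp.two_le]
      · exact hno
    refine gamY_of_noSP m.inj hna hno hab hE hEι hcard fun A hA hAι hEA => ?_
    have hAσ : ∀ y ∈ A, m.σ y = y := by
      intro y hy
      obtain ⟨a, rfl⟩ := hAι y hy
      exact m.fix a
    have hfinA := finite_of_fix m hAσ
    have h1 : Nat.card ↥A ≤ p ^ 2 :=
      (hdich A hA hAσ (hE2.trans (Nat.card_le_card_of_injective _ (inclusion_injective hEA)))).resolve_left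
        (hex A hA hAσ hEA)
    exact (eq_of_le_of_card_ge hEA (by rw [hcard]; exact h1)).ge

end Row

end Cfsg.Agent.H225.Gen
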