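import Cfsg.Agent.H225.Gen.F4
import Cfsg.Agent.H628.Exc.Rows

/-!
# `F₄(q)`, `q ≥ 3`, `p ≥ 5`: the inner-diagonal part (S2187, helper225)
-/

set_option autoImplicit false

namespace Cfsg.Agent.H225.Gen

open Cfsg Cfsg.Lie Cfsg.Lie.ChevalleyDatum Cfsg.Agent.Nodes.RGDChev Cfsg.Agent.H316.U6 Cfsg.Agent.H818.Gen

/-- **`F₄(q)`, `q ≥ 3`, `p ≥ 5`.** -/
theorem genIn_F4_row {r : ℕ} [hr : Fact r.Prime] {F : Type} [Field F] [Fintype F] [CharP F r]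
    {hp : IsType chevF4 4 CoxeterMatrix.F₄} (m : MData hp r (Fintype.card F) ↥(chevF4.group F)) (hdd : m.dd = 1)
    {p : ℕ} (hpp : p.Prime) (hpr : p ≠ r) (h5 : 5 ≤ p) (hq : 3 ≤ Fintype.card F) : GenIn m p := by
  obtain ⟨h1, h2⟩ := S1054.result (F := F) chevF4 (by simp)
  have := Fact.mk hpp
  exact genIn_F4_all m h2 hpp hpr h5 hq (by rw [hdd]; exact hpp.not_dvd_one)
    (H628.Exc.Rows.row_F4 (r := r) (by omega) hpr hq)

end Cfsg.Agent.H225.Gen
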