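import Cfsg.Agent.H225.Gen.Root
import Cfsg.Agent.H818.StrP.UAct2
import Cfsg.Agent.KFacts.ChevTwoInst

/-!
# The long roots of the exceptional root systems (S2187, helper225)

`D` one of `G2, D4, F4, E6, E7, E8`, `θ = th D l` the highest root.

* `cpr_th` : `⟨x, θ^∨⟩ = x (nd h hp)`;
* `LL` : the orbit of `θ`; `LL_long : Long`, `LL_rsub : RSub`, `LL_conn` : connected;
* `LL_span` : a vector orthogonal to all long roots is zero;
* `LL_g` : stability under frame automorphisms;
* `sq_of_orth` : `⟨g β, β^∨⟩ = 0` for all long roots `β`: then `g (g β) = -β` for all long roots.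
-/

set_option autoImplicit false
set_option linter.unusedSectionVars false
set_option linter.unusedVariables false

namespace Cfsg.Agent.H225.Gen

open CoxeterSystem Cfsg Cfsg.Lie Cfsg.Lie.ChevalleyDatum
open Cfsg.Agent.ChevalleyStructure Cfsg.Agent.ChevalleyStructure.Elts Cfsg.Agent.ChevalleyStructure.CoxeterGeom
  Cfsg.Agent.ChevalleyStructure.CoxeterGeomTypes Cfsg.Agent.ChevalleyStructure.NPerm
open Cfsg.Agent.Tits.Roots Cfsg.Agent.Tits.Core Cfsg.Agent.Nodes Cfsg.Agent.Nodes.Reps Cfsg.Agent.Nodes.BNOf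
  Cfsg.Agent.Nodes.Coroot Cfsg.Agent.Nodes.SubComb Cfsg.Agent.KFacts.RgdSL Cfsg.Agent.H123.ExcComb
  Cfsg.Agent.Nodes.RGDChev Cfsg.Agent.BpExc.Fr
open Cfsg.Agent.H818.StrP.UTab Cfsg.Agent.H818.StrP.UAct

/-! ### tables -/

/-- the tree check -/
def chkT (D : ChevalleyDatum) (par : List ℕ) : Bool :=
  decide (D.cartan (node D) (top D) = 1) && (List.range D.rank).all fun k =>
    decide (par.getD k 0 < D.rank) && decide ((fun x => par.getD x 0)^[D.rank] k = node D) &&
      (decide (k = node D) || decide (D.cartan (par.getD k 0) (D.simple k) ≠ 0))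

theorem chkT_G2 : chkT chevG2 [1, 1] = true := by decide +kernel
theorem chkT_D4 : chkT chevD4 [1, 1, 1, 1] = true := by decide +kernel
theorem chkT_F4 : chkT chevF4 [1, 2, 3, 3] = true := by decide +kernel
theorem chkT_E6 : chkT chevE6 [2, 1, 3, 1, 3, 4] = true := by decide +kernel
theorem chkT_E7 : chkT chevE7 [0, 3, 0, 2, 3, 4, 5] = true := by decide +kernel
theorem chkT_E8 : chkT chevE8 [2, 3, 3, 4, 5, 6, 7, 7] = true := by decide +kernel

theorem exists_chkT {D : ChevalleyDatum} (h : HiList D) : ∃ par, chkT D par = true := by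
  simp only [HiList, List.mem_cons, List.not_mem_nil, or_false] at h
  rcases h with rfl | rfl | rfl | rfl | rfl | rfl
  · exact ⟨_, chkT_G2⟩
  · exact ⟨_, chkT_D4⟩
  · exact ⟨_, chkT_F4⟩
  · exact ⟨_, chkT_E6⟩
  · exact ⟨_, chkT_E7⟩
  · exact ⟨_, chkT_E8⟩

theorem cartan_top {D : ChevalleyDatum} (h : HiList D) : D.cartan (node D) (top D) = 1 := by
  obtain ⟨par, h1⟩ := exists_chkT h
  unfold chkT at h1
  rw [Bool.and_eq_true, decide_eq_true_eq] at h1
  exact h1.1

section

variable {D : ChevalleyDatum} {l : ℕ} {M : CoxeterMatrix (Fin l)} {W : Type*} [Group W]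

/-- a property of the nodes which passes to the neighbours -/
theorem all_nodes (h : HiList D) (hp : IsType D l M) (P : Fin l → Prop) (h0 : P (nd h hp))
    (hs : ∀ i j, P i → cartanOf D l i j ≠ 0 → P j) (i : Fin l) : P i := by
  obtain ⟨par, h1⟩ := exists_chkT h
  unfold chkT at h1
  rw [Bool.and_eq_true, List.all_eq_true] at h1
  have h2 : ∀ k < D.rank, par.getD k 0 < D.rank ∧ (fun x => par.getD x 0)^[D.rank] k = node D ∧
      (k = node D ∨ D.cartan (par.getD k 0) (D.simple k) ≠ 0) := by
    intro k hk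
    have h3 := h1.2 k (List.mem_range.2 hk)
    rw [Bool.and_eq_true, Bool.and_eq_true, Bool.or_eq_true, decide_eq_true_eq, decide_eq_true_eq, decide_eq_true_eq,
      decide_eq_true_eq] at h3
    exact ⟨h3.1.1, h3.1.2, h3.2⟩
  have key : ∀ m (k : Fin l), (fun x => par.getD x 0)^[m] (k : ℕ) = node D → P k := by
    intro m
    induction m with
    | zero =>
      intro k hk
      have : k = nd h hp := Fin.ext hk
      rw [this]; exact h0
    | succ m ih =>
      intro k hk
      obtain ⟨h3, -, h4⟩ := h2 k (lt_rank hp k)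
      rcases h4 with h4 | h4
      · have : k = nd h hp := Fin.ext h4
        rw [this]; exact h0
      · have h5 : par.getD (k : ℕ) 0 < l := by rwa [hp.rank_eq] at h3
        refine hs ⟨_, h5⟩ k (ih ⟨_, h5⟩ ?_) ?_
        · rw [Function.iterate_succ_apply] at hk
          exact hk
        · exact h4
  exact key D.rank i (h2 i (lt_rank hp i)).2.1

theorem form_sum' {I W : Type*} [Fintype I] [DecidableEq I] [Group W] {M : CoxeterMatrix I}
    (cs : CoxeterSystem M W) {A : I → I → ℤ} (h : IsCartan M A) [Fintype W] {ι : Type*} (s : Finset ι) (c : ι → ℤ)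
    (v : ι → I → ℤ) (y : I → ℤ) :
    form cs h (∑ i ∈ s, c i • v i) y = ∑ i ∈ s, c i * form cs h (v i) y := by
  classical
  induction s using Finset.induction_on with
  | empty =>
    have : form cs h (0 : I → ℤ) y = 0 := by
      have := form_smul_left cs h 0 0 y
      rw [zero_smul, zero_mul] at this
      exact this
    rw [Finset.sum_empty, Finset.sum_empty, this]
  | insert a s ha ih =>
    rw [Finset.sum_insert ha, Finset.sum_insert ha, form_add_left, form_smul_left, ih]

theorem pairing_sr' {I : Type*} [Fintype I] [DecidableEq I] {A : I → I → ℤ} (i j : I) :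
    pairing A i (sr j) = A i j := by
  unfold pairing
  rw [Finset.sum_eq_single j (fun k _ hk => by rw [sr_ne hk, mul_zero]) (fun h => absurd (Finset.mem_univ _) h),
    sr_self, mul_one]

theorem form_sr_zero {I W : Type*} [Fintype I] [DecidableEq I] [Group W] {M : CoxeterMatrix I}
    (cs : CoxeterSystem M W) {A : I → I → ℤ} (h : IsCartan M A) [Fintype W] {i : I} {x : I → ℤ}
    (hx : pairing A i x = 0) : form cs h x (sr i) = 0 := by
  have h1 := two_form cs h i x
  rw [hx, zero_mul] at h1
  omega

/-- a vector orthogonal to the simple roots is zero -/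
theorem eq_zero_of_pairing {I W : Type*} [Fintype I] [DecidableEq I] [Group W] {M : CoxeterMatrix I}
    (cs : CoxeterSystem M W) {A : I → I → ℤ} (h : IsCartan M A) [Finite W] {x : I → ℤ}
    (hx : ∀ i, pairing A i x = 0) : x = 0 := by
  have := Fintype.ofFinite W
  by_contra hne
  have h1 := form_pos cs h hne
  have h2 : form cs h x x = 0 := by
    have h3 : form cs h (∑ k, x k • sr k) x = 0 := by
      rw [form_sum']
      refine Finset.sum_eq_zero fun i _ => ?_
      rw [form_comm, form_sr_zero cs h (hx i), mul_zero]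
    rwa [← eq_sum_sr x] at h3
  omega

/-- the highest root -/
abbrev th (D : ChevalleyDatum) (l : ℕ) : Fin l → ℤ := vec D l (top D)

variable (h : HiList D) (hp : IsType D l M) (cs : CoxeterSystem M W)

include h in
theorem th_root : IsRoot cs hp.isCartan (th D l) := isRoot_vec hp cs (top_lt h)

theorem th_nd : th D l (nd h hp) = 2 := by
  show vec D l (top D) (nd h hp) = 2
  rw [vec_nd, rt_top h]

theorem cpr_th (x : Fin l → ℤ) : cpr cs hp.isCartan x (th D l) = x (nd h hp) := by
  have := finite_W hp cs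
  have hθ := th_root h hp cs
  have h1 : ∀ i : Fin l, cpr cs hp.isCartan (sr i) (th D l) = sr i (nd h hp) := by
    intro i
    rw [← vec_simple hp i, KFacts.ChevTwoInst.cpr_vec hp cs (top_lt h) _ (simple_lt hp.inList (lt_rank hp i)), vec_nd]
    exact pair h (simple_lt hp.inList (lt_rank hp i))
  have h2 : ell cs hp.isCartan hθ x = x (nd h hp) := by
    conv_lhs => rw [eq_sum_sr x]
    rw [map_sum]
    conv_rhs => rw [eq_sum_sr x]
    rw [Finset.sum_apply]
    refine Finset.sum_congr rfl fun i _ => ?_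
    rw [map_zsmul, ell_apply, h1, Pi.smul_apply]
  exact h2

/-- the long roots -/
def LL (cs : CoxeterSystem M W) (hp : IsType D l M) : Set (Fin l → ℤ) :=
  {a | ∃ w, a = rep cs hp.isCartan w (th D l)}

theorem th_mem : th D l ∈ LL cs hp := ⟨1, by rw [map_one, Module.End.one_apply]⟩

theorem LL_rep {a : Fin l → ℤ} (ha : a ∈ LL cs hp) (w : W) : rep cs hp.isCartan w a ∈ LL cs hp := by
  obtain ⟨v, rfl⟩ := ha
  exact ⟨w * v, by rw [rep_mul_apply]⟩

include h in
theorem LL_root {a : Fin l → ℤ} (ha : a ∈ LL cs hp) : IsRoot cs hp.isCartan a := by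
  obtain ⟨v, rfl⟩ := ha
  exact (th_root h hp cs).act v

theorem LL_refl {a b : Fin l → ℤ} (ha : a ∈ LL cs hp) (hb : IsRoot cs hp.isCartan b) :
    a - cpr cs hp.isCartan a b • b ∈ LL cs hp := by
  have := finite_W hp cs
  obtain ⟨w, i, rfl⟩ := hb
  rw [← rep_rfl'_eq]
  exact LL_rep hp cs ha _

include h in
theorem LL_long : Long cs hp.isCartan (LL cs hp) := by
  have := finite_W hp cs
  refine ⟨fun a ha => LL_root h hp cs ha, fun a ha b hb => LL_refl hp cs ha hb, ?_⟩
  rintro _ ⟨w, rfl⟩ b hb hne
  have h1 : cpr cs hp.isCartan b (rep cs hp.isCartan w (th D l)) = rep cs hp.isCartan w⁻¹ b (nd h hp) := by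
    have h2 := cpr_rep cs hp.isCartan w (rep cs hp.isCartan w⁻¹ b) (th_root h hp cs)
    rw [← rep_mul_apply, mul_inv_cancel, map_one, Module.End.one_apply] at h2
    rw [h2, cpr_th h hp cs]
  rw [h1]
  obtain ⟨s, hs, hs'⟩ := (isRoot_iff hp cs _).1 (hb.act w⁻¹)
  rw [← hs', vec_nd]
  by_contra hcon
  have h3 := rt_le h hs
  have h4 := eq_top h hs (by omega)
  apply hne
  rw [h4] at hs'
  have h5 := congrArg (rep cs hp.isCartan w) hs'
  rw [← rep_mul_apply, mul_inv_cancel, map_one, Module.End.one_apply] at h5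
  exact h5.symm

include h in
theorem LL_neg {a : Fin l → ℤ} (ha : a ∈ LL cs hp) : -a ∈ LL cs hp := by
  have := finite_W hp cs
  exact (LL_long h hp cs).neg ha

include h in
theorem LL_rsub : RSub cs hp.isCartan (LL cs hp) :=
  ⟨fun a ha => LL_root h hp cs ha, fun a ha => LL_neg h hp cs ha, fun a ha b hb => LL_refl hp cs ha (LL_root h hp cs hb)⟩

theorem pairing_top : pairing (cartanOf D l) (nd h hp) (th D l) = 1 := by
  rw [pairing_vec hp _ (top_lt h)]
  exact cartan_top h

/-- the simple root of the node of `θ` is long -/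
theorem sr_nd_mem : (sr (nd h hp) : Fin l → ℤ) ∈ LL cs hp := by
  have := finite_W hp cs
  have hθ := th_root h hp cs
  set i := nd h hp
  have hi := isRoot_sr cs hp.isCartan i
  have h1 : cpr cs hp.isCartan (th D l) (sr i) = 1 := by rw [cpr_sr, pairing_top h hp]
  have h2 : cpr cs hp.isCartan (sr i) (th D l) = 1 := by
    rw [cpr_th h hp cs]
    exact sr_self _
  have h3 : rep cs hp.isCartan (cs.simple i) (th D l) = th D l - sr i := by
    rw [rep_simple_eq, pairing_top h hp, one_smul]
  have hγ : IsRoot cs hp.isCartan (th D l - sr i) := by rw [← h3]; exact hθ.act _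
  have h4 : cpr cs hp.isCartan (th D l) (th D l - sr i) = 1 := by
    have h5 := cpr_rep cs hp.isCartan (cs.simple i) (th D l - sr i) hθ
    rw [h3] at h5
    have h6 : rep cs hp.isCartan (cs.simple i) (th D l - sr i) = th D l := by
      rw [← h3, ← rep_mul_apply, cs.simple_mul_simple_self, map_one, Module.End.one_apply]
    rw [h6] at h5
    rw [h5, cpr_sub hθ, cpr_self cs _ hθ, h2]
    norm_num
  have h5 := LL_refl hp cs (th_mem hp cs) hγ
  rw [h4, one_smul, sub_sub_cancel] at h5
  exact h5

include h in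
/-- **The long roots are connected.** -/
theorem LL_conn {a b : Fin l → ℤ} (ha : a ∈ LL cs hp) (hb : b ∈ LL cs hp) : Conn cs hp.isCartan (LL cs hp) a b := by
  have := finite_W hp cs
  have hS := LL_rsub h hp cs
  have hθ := th_root h hp cs
  have key : ∀ w : W, Conn cs hp.isCartan (LL cs hp) (rep cs hp.isCartan w (th D l)) (th D l) := by
    intro w
    induction w using cs.simple_induction_left with
    | one =>
      rw [map_one, Module.End.one_apply]
      exact conn_self hS (th_mem hp cs)
    | mul_simple_left w i ih =>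
      have hx : rep cs hp.isCartan w (th D l) ∈ LL cs hp := ⟨w, rfl⟩
      rw [rep_mul_apply]
      by_cases hi : i = nd h hp
      · subst hi
        have h1 := conn_refl hS hx (sr_nd_mem h hp cs)
        rw [cpr_sr, ← rep_simple_eq cs hp.isCartan] at h1
        exact Conn.trans hS (LL_rep hp cs hx _) hx (th_mem hp cs) h1 ih
      · have h1 : rep cs hp.isCartan (cs.simple i) (th D l) = th D l := by
          have h2 : cpr cs hp.isCartan (th D l) (sr i) = 0 := by
            rw [cpr_zero_comm cs hp.isCartan hθ (isRoot_sr cs hp.isCartan i), cpr_th h hp cs]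
            exact sr_ne (Ne.symm hi)
          rw [rep_simple_eq, ← cpr_sr cs hp.isCartan, h2, zero_smul, sub_zero]
        obtain ⟨c, hc, h2, h3⟩ := ih
        refine ⟨rep cs hp.isCartan (cs.simple i) c, LL_rep hp cs hc _, ?_, ?_⟩
        · rw [cpr_rep cs hp.isCartan _ _ (LL_root h hp cs hc)]
          exact h2
        · rw [← h1, cpr_rep cs hp.isCartan _ _ hθ]
          exact h3
  obtain ⟨w, rfl⟩ := ha
  obtain ⟨v, rfl⟩ := hb
  exact Conn.trans hS ⟨w, rfl⟩ (th_mem hp cs) ⟨v, rfl⟩ (key w) (Conn.symm hS ⟨v, rfl⟩ (th_mem hp cs) (key v))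

include h in
/-- **A vector orthogonal to the long roots is zero.** -/
theorem LL_span {x : Fin l → ℤ} (hx : ∀ a ∈ LL cs hp, cpr cs hp.isCartan x a = 0) : x = 0 := by
  have := finite_W hp cs
  have hθ := th_root h hp cs
  have h1 : ∀ w : W, rep cs hp.isCartan w x (nd h hp) = 0 := by
    intro w
    have h2 := hx (rep cs hp.isCartan w⁻¹ (th D l)) ⟨w⁻¹, rfl⟩
    have h3 := cpr_rep cs hp.isCartan w⁻¹ (rep cs hp.isCartan w x) hθ
    rw [← rep_mul_apply, inv_mul_cancel, map_one, Module.End.one_apply, h2, cpr_th h hp cs] at h3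
    exact h3.symm
  have h2 : ∀ i : Fin l, ∀ w : W, pairing (cartanOf D l) i (rep cs hp.isCartan w x) = 0 := by
    refine all_nodes h hp (fun i => ∀ w : W, pairing (cartanOf D l) i (rep cs hp.isCartan w x) = 0) ?_ ?_
    · intro w
      have h3 := h1 (cs.simple (nd h hp) * w)
      rw [rep_mul_apply, rep_simple_eq, Pi.sub_apply, h1, Pi.smul_apply, sr_self, smul_eq_mul, mul_one, zero_sub,
        neg_eq_zero] at h3
      exact h3
    · intro i j hi hij w
      have h3 := hi (cs.simple j * w)
      rw [rep_mul_apply, ← cpr_sr cs hp.isCartan, rep_simple_eq, cpr_sub (isRoot_sr cs hp.isCartan i),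
        cpr_smul cs _ _ _ (isRoot_sr cs hp.isCartan i), cpr_sr, cpr_sr, hi w, pairing_sr', zero_sub, neg_eq_zero] at h3
      exact (mul_eq_zero.1 h3).resolve_right hij
  refine eq_zero_of_pairing cs hp.isCartan fun i => ?_
  have := h2 i 1
  rwa [map_one, Module.End.one_apply] at this

/-! ### frame automorphisms -/

variable {g : (Fin l → ℤ) ≃+ (Fin l → ℤ)} (hg : ∀ a, IsRoot cs hp.isCartan (g a) ↔ IsRoot cs hp.isCartan a)
  (hgθ : g (th D l) ∈ LL cs hp)

include h hg hgθ

theorem LL_g {a : Fin l → ℤ} (ha : a ∈ LL cs hp) : g a ∈ LL cs hp := by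
  have := finite_W hp cs
  obtain ⟨w, rfl⟩ := ha
  induction w using cs.simple_induction_left with
  | one =>
    rw [map_one, Module.End.one_apply]
    exact hgθ
  | mul_simple_left w i ih =>
    have hx : IsRoot cs hp.isCartan (rep cs hp.isCartan w (th D l)) := (th_root h hp cs).act w
    have hi := isRoot_sr cs hp.isCartan i
    rw [rep_mul_apply, rep_simple_eq, ← cpr_sr cs hp.isCartan, map_sub, map_zsmul, ← cpr_g hg hx hi]
    exact LL_refl hp cs ih ((hg _).2 hi)

/-- **`g² = -1` on the long roots.** -/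
theorem sq_of_orth (h0 : ∀ a ∈ LL cs hp, cpr cs hp.isCartan (g a) a = 0) {a : Fin l → ℤ} (ha : a ∈ LL cs hp) :
    g (g a) = -a := by
  have := finite_W hp cs
  have := Fintype.ofFinite W
  have hL := LL_long h hp cs
  have hS := LL_rsub h hp cs
  have hθ := th_root h hp cs
  have hr : ∀ a ∈ LL cs hp, IsRoot cs hp.isCartan a := fun a ha => LL_root h hp cs ha
  have hN : ∀ a ∈ LL cs hp, form cs hp.isCartan a a = form cs hp.isCartan (th D l) (th D l) := by
    rintro _ ⟨w, rfl⟩
    exact form_rep cs hp.isCartan w _ _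
  have hsub : ∀ x y z : Fin l → ℤ, form cs hp.isCartan x (y - z) = form cs hp.isCartan x y - form cs hp.isCartan x z := by
    intro x y z
    have e : y = (y - z) + z := by abel
    have h1 : form cs hp.isCartan x y = form cs hp.isCartan x (y - z) + form cs hp.isCartan x z := by
      conv_lhs => rw [e]
      rw [form_comm, form_add_left, form_comm, form_comm cs hp.isCartan z]
    omega
  have hsmul : ∀ (n : ℤ) (x y : Fin l → ℤ), form cs hp.isCartan x (n • y) = n * form cs hp.isCartan x y := by
    intro n x y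
    rw [form_comm, form_smul_left, form_comm]
  have hsub' : ∀ x y z : Fin l → ℤ, form cs hp.isCartan (y - z) x = form cs hp.isCartan y x - form cs hp.isCartan z x := by
    intro x y z
    rw [form_comm, hsub, form_comm cs hp.isCartan x y, form_comm cs hp.isCartan x z]
  have hsmul' : ∀ (n : ℤ) (x y : Fin l → ℤ), form cs hp.isCartan (n • x) y = n * form cs hp.isCartan x y :=
    fun n x y => form_smul_left cs hp.isCartan n x y
  -- the relation for non-orthogonal roots
  have h1 : ∀ a ∈ LL cs hp, ∀ b ∈ LL cs hp, form cs hp.isCartan a b ≠ 0 →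
      form cs hp.isCartan (g a) b + form cs hp.isCartan a (g b) = 0 := by
    intro a ha b hb hab
    have h2 : ∀ d ∈ LL cs hp, form cs hp.isCartan (g d) d = 0 := fun d hd =>
      (cpr_zero_iff cs hp.isCartan _ (hr d hd)).1 (h0 d hd)
    have h3 := h2 _ (LL_refl hp cs ha (hr b hb))
    set n := cpr cs hp.isCartan a b with hn
    have hn0 : n ≠ 0 := fun h4 => hab ((cpr_zero_iff cs hp.isCartan _ (hr b hb)).1 h4)
    rw [map_sub, map_zsmul] at h3
    simp only [hsub, hsmul, hsub', hsmul', h2 a ha, h2 b hb, form_comm cs hp.isCartan (g b) a] at h3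
    have h4 : n * (form cs hp.isCartan (g a) b + form cs hp.isCartan a (g b)) = 0 := by
      linear_combination (-1) * h3
    exact (mul_eq_zero.1 h4).resolve_left hn0
  -- the relation for all roots
  have h2 : ∀ a ∈ LL cs hp, ∀ b ∈ LL cs hp, form cs hp.isCartan (g a) b + form cs hp.isCartan a (g b) = 0 := by
    intro a ha b hb
    by_cases hab : form cs hp.isCartan a b = 0
    · obtain ⟨d, hd, h3, h4⟩ := LL_conn h hp cs ha hb
      have h5 : form cs hp.isCartan a d ≠ 0 := fun h6 => h3 ((cpr_zero_iff cs hp.isCartan _ (hr d hd)).2 h6)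
      have h6 : cpr cs hp.isCartan b d ≠ 0 := fun h7 => h4 ((cpr_zero_comm cs hp.isCartan (hr b hb) (hr d hd)).1 h7)
      have h7 := h1 a ha d hd h5
      have h8 := h1 a ha _ (LL_refl hp cs hb (hr d hd)) (by
        rw [hsub, hsmul, hab, zero_sub]
        exact neg_ne_zero.2 (mul_ne_zero h6 h5))
      rw [hsub, hsmul, map_sub, map_zsmul, hsub, hsmul] at h8
      have h9 : cpr cs hp.isCartan b d * (form cs hp.isCartan (g a) d + form cs hp.isCartan a (g d)) = 0 := by
        rw [h7, mul_zero]
      linarith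
    · exact h1 a ha b hb hab
  -- in terms of the coroots
  have h3 : ∀ b ∈ LL cs hp, cpr cs hp.isCartan (g a) b + cpr cs hp.isCartan a (g b) = 0 := by
    intro b hb
    have hgb := LL_g h hp cs hg hgθ hb
    have h4 := two_form_cpr cs hp.isCartan (g a) (hr b hb)
    have h5 := two_form_cpr cs hp.isCartan a (hr _ hgb)
    have h6 := h2 a ha b hb
    have h7 := form_pos cs hp.isCartan hθ.ne_zero
    rw [hN b hb] at h4
    rw [hN _ hgb] at h5
    have h8 : (cpr cs hp.isCartan (g a) b + cpr cs hp.isCartan a (g b)) * form cs hp.isCartan (th D l) (th D l) = 0 := by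
      rw [add_mul, ← h4, ← h5, ← mul_add, h6, mul_zero]
    exact (mul_eq_zero.1 h8).resolve_right h7.ne'
  have h4 : g a + g.symm a = 0 := by
    refine LL_span h hp cs fun b hb => ?_
    have h5 : IsRoot cs hp.isCartan (g.symm a) := by
      rw [← hg, AddEquiv.apply_symm_apply]
      exact hr a ha
    rw [cpr_add cs _ _ _ (hr b hb), ← cpr_g hg h5 (hr b hb), AddEquiv.apply_symm_apply]
    exact h3 b hb
  have h5 : g a = -g.symm a := eq_neg_of_add_eq_zero_left h4
  rw [h5, map_neg, AddEquiv.apply_symm_apply]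

end

end Cfsg.Agent.H225.Gen
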