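import Cfsg.Agent.H123.ExcComb
import Cfsg.Agent.BpExc.Fr

/-!
# Long roots fixed by a frame automorphism (S2187, helper225)

`S` a set of roots closed under negation and reflections, `L` a set of "long" roots.

* `Conn S a b` : a root of `S` is orthogonal to neither `a` nor `b` (an equivalence relation);
* `exists_fixed` : `g₁` preserves `S`, `L` and the positive roots of `S`, `g₁ β` connected to `β ∈ S ∩ L`: then
  `g₁ a = a` for some `a ∈ S ∩ L`;
* `exists_fixed'` : the same for `g₁ x = g (v x)`, `v` a product of reflections in `S`.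
-/

set_option autoImplicit false
set_option linter.unusedSectionVars false

namespace Cfsg.Agent.H225.Gen

open CoxeterSystem Cfsg.Agent.ChevalleyStructure.CoxeterGeom Cfsg.Agent.Tits.Roots Cfsg.Agent.Tits.Core
  Cfsg.Agent.Tits.Exchange Cfsg.Agent.Tits.RootComb Cfsg.Agent.Nodes.Reps Cfsg.Agent.Nodes.BNOf
  Cfsg.Agent.Nodes.Coroot Cfsg.Agent.Nodes.SubComb Cfsg.Agent.KFacts.RgdSL Cfsg.Agent.H123.ExcComb
  Cfsg.Agent.BpExc.Fr

variable {I W : Type*} [Fintype I] [DecidableEq I] [Group W] {M : CoxeterMatrix I}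
  {cs : CoxeterSystem M W} {A : I → I → ℤ} {h : IsCartan M A} [Finite W]

/-- closed under negation and reflections -/
structure RSub (cs : CoxeterSystem M W) (h : IsCartan M A) (S : Set (I → ℤ)) : Prop where
  root : ∀ a ∈ S, IsRoot cs h a
  neg : ∀ a ∈ S, -a ∈ S
  refl : ∀ a ∈ S, ∀ b ∈ S, a - cpr cs h a b • b ∈ S

/-- a set of long roots -/
structure Long (cs : CoxeterSystem M W) (h : IsCartan M A) (L : Set (I → ℤ)) : Prop where
  root : ∀ a ∈ L, IsRoot cs h a
  refl : ∀ a ∈ L, ∀ b, IsRoot cs h b → a - cpr cs h a b • b ∈ L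
  le : ∀ a ∈ L, ∀ b, IsRoot cs h b → b ≠ a → cpr cs h b a ≤ 1

/-- connected roots -/
def Conn (cs : CoxeterSystem M W) (h : IsCartan M A) (S : Set (I → ℤ)) (a b : I → ℤ) : Prop :=
  ∃ c ∈ S, cpr cs h a c ≠ 0 ∧ cpr cs h c b ≠ 0

theorem Long.neg {L : Set (I → ℤ)} (hL : Long cs h L) {a : I → ℤ} (ha : a ∈ L) : -a ∈ L := by
  have h1 := hL.refl a ha a (hL.root a ha)
  rw [cpr_self cs h (hL.root a ha)] at h1
  have : a - (2 : ℤ) • a = -a := by module
  rwa [this] at h1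

variable {S : Set (I → ℤ)} (hS : RSub cs h S)

include hS

theorem conn_self {a : I → ℤ} (ha : a ∈ S) : Conn cs h S a a :=
  ⟨a, ha, by rw [cpr_self cs h (hS.root a ha)]; norm_num, by rw [cpr_self cs h (hS.root a ha)]; norm_num⟩

theorem conn_of_ne {a b : I → ℤ} (ha : a ∈ S) (hab : cpr cs h a b ≠ 0) : Conn cs h S a b :=
  ⟨a, ha, by rw [cpr_self cs h (hS.root a ha)]; norm_num, hab⟩

theorem Conn.symm {a b : I → ℤ} (ha : a ∈ S) (hb : b ∈ S) (hab : Conn cs h S a b) : Conn cs h S b a := by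
  obtain ⟨c, hc, h1, h2⟩ := hab
  exact ⟨c, hc, fun h3 => h2 ((cpr_zero_comm cs h (hS.root b hb) (hS.root c hc)).1 h3),
    fun h3 => h1 ((cpr_zero_comm cs h (hS.root c hc) (hS.root a ha)).1 h3)⟩

theorem Conn.step {a b d : I → ℤ} (ha : a ∈ S) (hb : b ∈ S) (hd : d ∈ S) (hab : Conn cs h S a b)
    (hbd : cpr cs h b d ≠ 0) : Conn cs h S a d := by
  obtain ⟨c, hc, h1, h2⟩ := hab
  by_cases h3 : cpr cs h c d = 0
  · by_cases h4 : cpr cs h a b = 0
    · have har := hS.root a ha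
      have hbr := hS.root b hb
      have hcr := hS.root c hc
      have hdr := hS.root d hd
      refine ⟨c - cpr cs h c b • b, hS.refl c hc b hb, ?_, ?_⟩
      · intro h5
        have hε := hS.root _ (hS.refl c hc b hb)
        rw [cpr_zero_comm cs h har hε, cpr_sub har, cpr_smul cs h _ _ har,
          (cpr_zero_comm cs h har hbr).1 h4, mul_zero, sub_zero, cpr_zero_comm cs h hcr har] at h5
        exact h1 h5
      · rw [cpr_sub hdr, cpr_smul cs h _ _ hdr, h3, zero_sub]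
        exact neg_ne_zero.2 (mul_ne_zero h2 hbd)
    · exact ⟨b, hb, h4, hbd⟩
  · exact ⟨c, hc, h1, h3⟩

theorem Conn.trans {a b d : I → ℤ} (ha : a ∈ S) (hb : b ∈ S) (hd : d ∈ S) (hab : Conn cs h S a b)
    (hbd : Conn cs h S b d) : Conn cs h S a d := by
  obtain ⟨c, hc, h1, h2⟩ := hbd
  exact Conn.step hS ha hc hd (Conn.step hS ha hb hc hab h1) h2

/-- reflections preserve the connected components -/
theorem conn_refl {a b : I → ℤ} (ha : a ∈ S) (hb : b ∈ S) : Conn cs h S (a - cpr cs h a b • b) a := by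
  have har := hS.root a ha
  have hbr := hS.root b hb
  by_cases h1 : cpr cs h a b = 0
  · rw [h1, zero_smul, sub_zero]
    exact conn_self hS ha
  · refine ⟨b, hb, ?_, fun h2 => h1 ((cpr_zero_comm cs h hbr har).1 h2)⟩
    rw [cpr_sub hbr, cpr_smul cs h _ _ hbr, cpr_self cs h hbr]
    intro h2
    apply h1
    omega

/-- products of reflections in `S` -/
theorem closure_refl {v : W}
    (hv : v ∈ Subgroup.closure {r | ∃ w i, rep cs h w (sr i) ∈ S ∧ r = rfl' cs w i}) :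
    ∀ a ∈ S, rep cs h v a ∈ S ∧ Conn cs h S (rep cs h v a) a := by
  have key : ∀ r ∈ {r | ∃ w i, rep cs h w (sr i) ∈ S ∧ r = rfl' cs w i}, ∀ a ∈ S,
      rep cs h r a ∈ S ∧ Conn cs h S (rep cs h r a) a := by
    rintro _ ⟨w, i, hi, rfl⟩ a ha
    rw [rep_rfl'_eq]
    exact ⟨hS.refl a ha _ hi, conn_refl hS ha hi⟩
  have hinv : ∀ r ∈ {r | ∃ w i, rep cs h w (sr i) ∈ S ∧ r = rfl' cs w i}, r⁻¹ = r := by
    rintro _ ⟨w, i, hi, rfl⟩
    unfold rfl'
    simp [mul_assoc]
  induction hv using Subgroup.closure_induction_left with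
  | one =>
    intro a ha
    rw [map_one, Module.End.one_apply]
    exact ⟨ha, conn_self hS ha⟩
  | mul_left r hr v _ ih =>
    intro a ha
    rw [rep_mul_apply]
    obtain ⟨h1, h2⟩ := ih a ha
    obtain ⟨h3, h4⟩ := key r hr _ h1
    exact ⟨h3, Conn.trans hS h3 h1 ha h4 h2⟩
  | inv_mul_cancel r hr v _ ih =>
    intro a ha
    rw [hinv r hr, rep_mul_apply]
    obtain ⟨h1, h2⟩ := ih a ha
    obtain ⟨h3, h4⟩ := key r hr _ h1
    exact ⟨h3, Conn.trans hS h3 h1 ha h4 h2⟩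

variable {L : Set (I → ℤ)} (hL : Long cs h L)

include hL

/-- **Uniqueness of the dominant long root of a component.** -/
theorem unique_dom {a b : I → ℤ} (ha : a ∈ S) (hb : b ∈ S) (haL : a ∈ L) (hbL : b ∈ L) (ha0 : 0 ≤ a) (hb0 : 0 ≤ b)
    (hda : ∀ c ∈ S, 0 ≤ c → 0 ≤ cpr cs h a c) (hdb : ∀ c ∈ S, 0 ≤ c → 0 ≤ cpr cs h b c)
    (hab : Conn cs h S a b) : a = b := by
  have har := hS.root a ha
  have hbr := hS.root b hb
  by_contra hne
  by_cases h0 : cpr cs h a b = 0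
  · obtain ⟨c, hc, h1, h2⟩ := hab
    -- we may assume that `c` is positive
    obtain ⟨c, hc, h1, h2, hc0⟩ : ∃ c ∈ S, cpr cs h a c ≠ 0 ∧ cpr cs h c b ≠ 0 ∧ 0 ≤ c := by
      rcases (hS.root c hc).pos_or_neg with h3 | h3
      · exact ⟨c, hc, h1, h2, h3⟩
      · refine ⟨-c, hS.neg c hc, ?_, ?_, neg_nonneg.2 h3⟩
        · rw [cpr_neg_right cs h a (hS.root c hc)]; exact neg_ne_zero.2 h1
        · rw [cpr_neg cs h c hbr]; exact neg_ne_zero.2 h2
    have hcr := hS.root c hc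
    have h3 : 0 < cpr cs h c a := (cpr_pos_comm har hcr).1 (lt_of_le_of_ne (hda c hc hc0) (Ne.symm h1))
    have hca : c ≠ a := by
      rintro rfl
      exact h2 h0
    have h4 : cpr cs h c a = 1 := le_antisymm (hL.le a haL c hcr hca) h3
    have h5 : c - a ∈ S := by
      have := hS.refl c hc a ha
      rwa [h4, one_smul] at this
    have h6 : 0 < cpr cs h c b := by
      refine (cpr_pos_comm hbr hcr).1 (lt_of_le_of_ne (hdb c hc hc0) fun h7 => h2 ?_)
      exact (cpr_zero_comm cs h hbr hcr).1 h7.symm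
    have h7 : 0 < cpr cs h b (c - a) := by
      refine (cpr_pos_comm (hS.root _ h5) hbr).1 ?_
      rw [cpr_sub hbr, h0, sub_zero]
      exact h6
    rcases (hS.root _ h5).pos_or_neg with h8 | h8
    · have h9 := hda _ h5 h8
      have h10 : cpr cs h (c - a) a = -1 := by rw [cpr_sub har, h4, cpr_self cs h har]; norm_num
      have h11 : cpr cs h a (-(c - a)) > 0 := by
        refine (cpr_pos_comm (hS.root _ h5).neg har).1 ?_
        rw [cpr_neg cs h _ har, h10]; norm_num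
      rw [cpr_neg_right cs h a (hS.root _ h5)] at h11
      omega
    · have h9 := hdb _ (hS.neg _ h5) (neg_nonneg.2 h8)
      rw [cpr_neg_right cs h b (hS.root _ h5)] at h9
      omega
  · have h1 : 0 < cpr cs h a b := lt_of_le_of_ne (hda b hb hb0) (Ne.symm h0)
    have h2 : 0 < cpr cs h b a := (cpr_pos_comm har hbr).1 h1
    have h3 : cpr cs h a b = 1 := le_antisymm (hL.le b hbL a har hne) h1
    have h4 : cpr cs h b a = 1 := le_antisymm (hL.le a haL b hbr (Ne.symm hne)) h2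
    have h5 : a - b ∈ S := by
      have := hS.refl a ha b hb
      rwa [h3, one_smul] at this
    have hr5 := hS.root _ h5
    rcases hr5.pos_or_neg with h8 | h8
    · have h9 := hdb _ h5 h8
      have h10 : cpr cs h (a - b) b = -1 := by rw [cpr_sub hbr, h3, cpr_self cs h hbr]; norm_num
      have h11 : 0 < cpr cs h b (-(a - b)) := by
        refine (cpr_pos_comm hr5.neg hbr).1 ?_
        rw [cpr_neg cs h _ hbr, h10]; norm_num
      rw [cpr_neg_right cs h b hr5] at h11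
      omega
    · have h9 := hda _ (hS.neg _ h5) (neg_nonneg.2 h8)
      have h10 : cpr cs h (a - b) a = 1 := by rw [cpr_sub har, cpr_self cs h har, h4]; norm_num
      have h11 : 0 < cpr cs h a (a - b) := by
        refine (cpr_pos_comm hr5 har).1 ?_
        rw [h10]; norm_num
      rw [cpr_neg_right cs h a hr5] at h9
      omega

/-- **Existence of a dominant long root.** -/
theorem exists_dom {β : I → ℤ} (hβ : β ∈ S) (hβL : β ∈ L) :
    ∃ a ∈ S, a ∈ L ∧ 0 ≤ a ∧ (∀ c ∈ S, 0 ≤ c → 0 ≤ cpr cs h a c) ∧ Conn cs h S a β := by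
  have hβr := hS.root β hβ
  have hfin : {a | a ∈ S ∧ a ∈ L ∧ 0 ≤ a ∧ Conn cs h S a β}.Finite :=
    (RGD.finite_roots (cs := cs) (h := h)).subset fun a ha => hS.root a ha.1
  have hne : {a | a ∈ S ∧ a ∈ L ∧ 0 ≤ a ∧ Conn cs h S a β}.Nonempty := by
    rcases hβr.pos_or_neg with h1 | h1
    · exact ⟨β, hβ, hβL, h1, conn_self hS hβ⟩
    · refine ⟨-β, hS.neg β hβ, hL.neg hβL, neg_nonneg.2 h1, β, hβ, ?_, ?_⟩
      · rw [cpr_self_neg hβr]; norm_num
      · rw [cpr_self cs h hβr]; norm_num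
  obtain ⟨a, ⟨ha, haL, ha0, hab⟩, hmax⟩ := hfin.exists_maximalFor (fun a => ht a) _ hne
  refine ⟨a, ha, haL, ha0, fun c hc hc0 => ?_, hab⟩
  by_contra hcon
  push Not at hcon
  have har := hS.root a ha
  have hcr := hS.root c hc
  have h1 : a - cpr cs h a c • c ∈ S := hS.refl a ha c hc
  have h2 : 0 ≤ a - cpr cs h a c • c := by
    have h3 : (0 : I → ℤ) ≤ (-cpr cs h a c) • c := smul_nonneg (by omega) hc0
    have h4 : a - cpr cs h a c • c = a + (-cpr cs h a c) • c := by module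
    rw [h4]
    exact add_nonneg ha0 h3
  have h5 : ht (a - cpr cs h a c • c) = ht a - cpr cs h a c * ht c := by
    have h6 := map_sub Nodes.Slope.htHom a (cpr cs h a c • c)
    rw [map_zsmul, smul_eq_mul] at h6
    exact h6
  have h6 : 0 < ht c := RGD.ht_pos hcr hc0
  have h7 := hmax (j := a - cpr cs h a c • c) ⟨h1, hL.refl a haL c hcr, h2,
    Conn.trans hS h1 ha hβ (conn_refl hS ha hc) hab⟩
  simp only at h7
  have h8 := mul_pos_of_neg_of_neg hcon (neg_neg_of_pos h6)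
  have h9 : ht a ≤ ht (a - cpr cs h a c • c) := by rw [h5]; nlinarith
  have h10 := h7 h9
  rw [h5] at h10
  nlinarith

/-- **A long root fixed by `g₁`.** -/
theorem exists_fixed {g : (I → ℤ) ≃+ (I → ℤ)} (hg : ∀ a, IsRoot cs h (g a) ↔ IsRoot cs h a)
    (hgS : ∀ a, g a ∈ S ↔ a ∈ S) (hgL : ∀ a ∈ L, g a ∈ L) (hpos : ∀ a ∈ S, 0 ≤ a → 0 ≤ g a) {β : I → ℤ} (hβ : β ∈ S)
    (hβL : β ∈ L) (hβg : Conn cs h S (g β) β) : ∃ a ∈ S, a ∈ L ∧ 0 ≤ a ∧ g a = a := by
  obtain ⟨a, ha, haL, ha0, hda, haβ⟩ := exists_dom hS hL hβ hβL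
  refine ⟨a, ha, haL, ha0, ?_⟩
  have hgs : g a ∈ S := (hgS a).2 ha
  have hconn : Conn cs h S (g a) (g β) := by
    obtain ⟨c, hc, h1, h2⟩ := haβ
    refine ⟨g c, (hgS c).2 hc, ?_, ?_⟩
    · rwa [cpr_g hg (hS.root a ha) (hS.root c hc)]
    · rwa [cpr_g hg (hS.root c hc) (hS.root β hβ)]
  refine unique_dom hS hL hgs ha (hgL a haL) haL (hpos a ha ha0) ha0 (fun c hc hc0 => ?_) hda ?_
  · obtain ⟨c', rfl⟩ := g.surjective c
    have hc' : c' ∈ S := (hgS c').1 hc
    rw [cpr_g hg (hS.root a ha) (hS.root c' hc')]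
    refine hda c' hc' ?_
    rcases (hS.root c' hc').pos_or_neg with h1 | h1
    · exact h1
    · exfalso
      have h2 := hpos (-c') (hS.neg c' hc') (neg_nonneg.2 h1)
      rw [map_neg] at h2
      exact (hS.root _ hc).not_pos_neg hc0 (neg_nonneg.1 h2)
  · have h1 := Conn.trans hS hgs ((hgS β).2 hβ) hβ hconn hβg
    exact Conn.trans hS hgs hβ ha h1 (Conn.symm hS ha hβ haβ)

/-- **A long root fixed by `g v`.** -/
theorem exists_fixed' {g : (I → ℤ) ≃+ (I → ℤ)} (hg : ∀ a, IsRoot cs h (g a) ↔ IsRoot cs h a)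
    (hgS : ∀ a, g a ∈ S ↔ a ∈ S) (hgL : ∀ a ∈ L, g a ∈ L)
    (hrL : ∀ (w : W), ∀ a ∈ L, rep cs h w a ∈ L) {v : W}
    (hv : v ∈ Subgroup.closure {r | ∃ w i, rep cs h w (sr i) ∈ S ∧ r = rfl' cs w i})
    (hpos : ∀ a ∈ S, 0 ≤ a → 0 ≤ g (rep cs h v a)) {β : I → ℤ} (hβ : β ∈ S)
    (hβL : β ∈ L) (hβg : Conn cs h S (g β) β) : ∃ a ∈ S, a ∈ L ∧ 0 ≤ a ∧ g (rep cs h v a) = a := by
  have hvS := closure_refl hS hv
  have hvS' := closure_refl hS (inv_mem hv)
  refine exists_fixed hS hL (g := (repAut cs h v).trans g) (fun a => ?_) (fun a => ?_) (fun a ha => ?_) hpos hβ hβL ?_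
  · show IsRoot cs h (g (rep cs h v a)) ↔ _
    rw [hg]
    constructor
    · intro h1
      have := h1.act v⁻¹
      rwa [← rep_mul_apply, inv_mul_cancel, map_one, Module.End.one_apply] at this
    · exact fun h1 => h1.act v
  · show g (rep cs h v a) ∈ S ↔ _
    rw [hgS]
    constructor
    · intro h1
      have := (hvS' _ h1).1
      rwa [← rep_mul_apply, inv_mul_cancel, map_one, Module.End.one_apply] at this
    · exact fun h1 => (hvS a h1).1
  · exact hgL _ (hrL v a ha)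
  · show Conn cs h S (g (rep cs h v β)) β
    obtain ⟨h1, c, hc, h2, h3⟩ := hvS β hβ
    refine Conn.trans hS ((hgS _).2 h1) ((hgS _).2 hβ) hβ ⟨g c, (hgS c).2 hc, ?_, ?_⟩ hβg
    · rwa [cpr_g hg (hS.root _ h1) (hS.root c hc)]
    · rwa [cpr_g hg (hS.root c hc) (hS.root β hβ)]

end Cfsg.Agent.H225.Gen
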